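import Mathlib.RingTheory.Valuation.LocalSubring
import Mathlib.RingTheory.Valuation.ValuationRing
import Mathlib.RingTheory.Valuation.Integral
import Mathlib.RingTheory.Bezout
import Mathlib.Algebra.GCDMonoid.IntegrallyClosed
import Mathlib.RingTheory.Localization.AtPrime.Basic
import Mathlib.FieldTheory.IsAlgClosed.AlgebraicClosure
import Mathlib.Algebra.MvPolynomial.Eval

/-!
# Extensions of valuation rings with algebraically closed fraction fields
-/

universe u

namespace Groth.Agent.Lib.LimSub.AlgClosed

open IsLocalRing

/-- The residue field of a valuation ring with algebraically closed fraction field is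
algebraically closed. -/
theorem isAlgClosed_residueField (V K : Type u) [CommRing V] [IsDomain V] [ValuationRing V]
    [Field K] [IsAlgClosed K] [Algebra V K] [IsFractionRing V K] :
    IsAlgClosed (ResidueField V) := by
  refine IsAlgClosed.of_exists_root _ fun p hp hirr => ?_
  obtain ⟨q, hqp, hdeg, hq⟩ := Polynomial.lifts_and_natDegree_eq_and_monic
    ((Polynomial.lifts_iff_coeff_lifts (f := residue V) p).mpr fun n => residue_surjective _) hp
  have hne : (q.map (algebraMap V K)).degree ≠ 0 := by
    rw [hq.degree_map, Polynomial.degree_eq_natDegree hq.ne_zero, hdeg]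
    exact_mod_cast hirr.natDegree_pos.ne'
  obtain ⟨x, hx⟩ := IsAlgClosed.exists_root _ hne
  have hint : IsIntegral V x := ⟨q, hq, by rwa [Polynomial.IsRoot, Polynomial.eval_map] at hx⟩
  obtain ⟨v, rfl⟩ := IsIntegrallyClosed.isIntegral_iff.mp hint
  refine ⟨residue V v, ?_⟩
  have : q.eval v = 0 := IsFractionRing.injective V K (by
    rw [map_zero, ← Polynomial.eval₂_hom]
    rwa [Polynomial.IsRoot, Polynomial.eval_map] at hx)
  rw [← hqp, Polynomial.eval_map, Polynomial.eval₂_hom, this, map_zero]

/-- A valuation ring extends to one with algebraically closed fraction field whose residue field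
receives a given extension of the residue field. -/
theorem exists_valExt (V : Type u) [CommRing V] [IsDomain V] [IsLocalRing V] (κ : Type u)
    [Field κ] (ρ : V →+* κ) (hρ : RingHom.ker ρ = maximalIdeal V) :
    ∃ (L : Type u) (_ : Field L) (_ : IsAlgClosed L) (A : ValuationSubring L) (a : V →+* A)
      (e : κ →+* ResidueField A),
      Function.Injective a ∧ IsLocalHom a ∧ e.comp ρ = (residue A).comp a := by
  let Q := MvPolynomial κ V
  let ev : Q →+* κ := MvPolynomial.eval₂Hom ρ id
  have hev : Function.Surjective ev := fun x => ⟨MvPolynomial.X x, MvPolynomial.eval₂Hom_X' _ _ _⟩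
  let P := RingHom.ker ev
  have : P.IsPrime := RingHom.ker_isPrime ev
  let L := AlgebraicClosure (FractionRing Q)
  let j : Q →+* L := (algebraMap (FractionRing Q) L).comp (algebraMap Q _)
  have hj : Function.Injective j :=
    (algebraMap (FractionRing Q) L).injective.comp (IsFractionRing.injective Q _)
  let f : Localization.AtPrime P →+* L := IsLocalization.lift (M := P.primeCompl) (g := j)
    fun y => isUnit_iff_ne_zero.mpr fun h => y.2 (by
      rw [(map_eq_zero_iff j hj).mp h]; exact P.zero_mem)
  obtain ⟨A, hA, hloc⟩ := IsLocalRing.exists_factor_valuationRing f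
  let g : Q →+* A := (f.codRestrict A.toSubring hA).comp (algebraMap Q _)
  have hgj : ∀ x, (g x : L) = j x := fun x => IsLocalization.lift_eq _ x
  have hgm : ∀ x ∈ P, residue A (g x) = 0 := fun x hx => by
    refine (residue_eq_zero_iff _).mpr ((mem_maximalIdeal _).mpr fun hu => ?_)
    have h := hloc.map_nonunit _ hu
    exact ((mem_maximalIdeal _).mp
      ((IsLocalization.AtPrime.to_map_mem_maximal_iff _ P x).mpr hx)) h
  let e : κ →+* ResidueField A :=
    RingHom.liftOfSurjective ev hev ⟨(residue A).comp g, hgm⟩
  have he : ∀ x, e (ev x) = residue A (g x) := RingHom.liftOfRightInverse_comp_apply ev _ _ _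
  have hC : ∀ v, ev (MvPolynomial.C v) = ρ v := fun v => MvPolynomial.eval₂Hom_C _ _ _
  refine ⟨L, inferInstance, inferInstance, A, g.comp MvPolynomial.C, e, fun v w h => ?_,
    ⟨fun v hv => ?_⟩, RingHom.ext fun v => ?_⟩
  · refine MvPolynomial.C_injective κ V (hj ?_)
    rw [← hgj, ← hgj]; exact congrArg Subtype.val h
  · by_contra hnu
    have : ρ v = 0 := RingHom.mem_ker.mp (hρ ▸ hnu)
    have h0 := hgm (MvPolynomial.C v) (RingHom.mem_ker.mpr ((hC v).trans this))
    exact ((residue_eq_zero_iff _).mp h0) hv
  · rw [RingHom.comp_apply, ← hC, he]; rfl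

end Groth.Agent.Lib.LimSub.AlgClosed
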