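import Groth.Agent.Lib.LimSub.ValPoint
import Groth.Agent.Lib.LimSub.AlgClosed
import Groth.Agent.Lib.Subtrusive.Valuation
import Mathlib.AlgebraicGeometry.Morphisms.FiniteType
import Mathlib.RingTheory.Jacobson.Ring

/-!
# Sections over valuation rings with algebraically closed fraction field
-/

universe u

open CategoryTheory AlgebraicGeometry IsLocalRing Groth.Agent.Lib.Subtrusive.Valuation

namespace Groth.Agent.Lib.LimSub.Section

variable {V : Type u} [CommRing V] [IsDomain V] [ValuationRing V]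
variable {Z : Scheme.{u}} (p : Z ⟶ Spec (.of V)) [LocallyOfFiniteType p]

/-- The ring map of `p` on an affine open. -/
theorem exists_ringHom {U : Z.Opens} (hU : IsAffineOpen U) :
    ∃ φ : V →+* Γ(Z, U), φ.FiniteType ∧
      Spec.map (CommRingCat.ofHom φ) = hU.fromSpec ≫ p := by
  obtain ⟨φ, hφ⟩ := Spec.map_surjective (hU.fromSpec ≫ p)
  refine ⟨φ.hom, ?_, hφ⟩
  have : LocallyOfFiniteType (Spec.map φ) := hφ ▸ inferInstance
  exact HasRingHomProperty.Spec_iff.mp this

/-- Over an algebraically closed residue field every point of the closed fibre specializes to a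
rational one. -/
theorem exists_rational_specialization {k : Type u} [Field k] [IsAlgClosed k] (τ : V →+* k)
    (hτ : Function.Surjective τ) (x : Z) (hx : p x = clPt V) :
    ∃ ξ : Spec (.of k) ⟶ Z, ξ ≫ p = Spec.map (CommRingCat.ofHom τ) ∧
      x ⤳ ξ (closedPoint k) := by
  obtain ⟨U, hU, hxU, -⟩ := exists_isAffineOpen_mem_and_subset (x := x) (U := ⊤) trivial
  obtain ⟨φ, hφft, hφ⟩ := exists_ringHom p hU
  obtain ⟨q, rfl⟩ : x ∈ Set.range hU.fromSpec := by rwa [hU.range_fromSpec]
  have hq : (q : PrimeSpectrum Γ(Z, U)).asIdeal.comap φ = maximalIdeal V := by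
    rw [← Scheme.Hom.comp_apply, ← hφ] at hx
    exact congrArg PrimeSpectrum.asIdeal hx
  obtain ⟨M, hM, hqM⟩ := Ideal.exists_le_maximal _ (q : PrimeSpectrum Γ(Z, U)).2.ne_top
  let := Ideal.Quotient.field M
  have hkt : RingHom.ker τ = maximalIdeal V :=
    IsLocalRing.eq_maximalIdeal (RingHom.ker_isMaximal_of_surjective τ hτ)
  let φM := (Ideal.Quotient.mk M).comp φ
  have hle : RingHom.ker τ ≤ RingHom.ker φM := hkt.le.trans (hq.ge.trans fun v hv =>
    Ideal.Quotient.eq_zero_iff_mem.mpr (hqM hv))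
  let kM : k →+* Γ(Z, U) ⧸ M := RingHom.liftOfSurjective τ hτ ⟨φM, hle⟩
  have hkM : kM.comp τ = φM := RingHom.ext (RingHom.liftOfRightInverse_comp_apply τ _ (Function.rightInverse_surjInv hτ) ⟨φM, hle⟩)
  have hfin : kM.FiniteType := RingHom.FiniteType.of_comp_finiteType (f := τ)
    (hkM.symm ▸ (RingHom.FiniteType.of_surjective (Ideal.Quotient.mk M)
      Ideal.Quotient.mk_surjective).comp hφft)
  algebraize [kM]
  have : Module.Finite k (Γ(Z, U) ⧸ M) := finite_of_finite_type_of_isJacobsonRing _ _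
  let e := RingEquiv.ofBijective kM (IsAlgClosed.algebraMap_bijective_of_isIntegral (k := k))
  let ev : Γ(Z, U) →+* k := e.symm.toRingHom.comp (Ideal.Quotient.mk M)
  have hev : ev.comp φ = τ := RingHom.ext fun v => e.injective (by
    simp only [ev, RingHom.comp_apply, RingEquiv.toRingHom_eq_coe, RingEquiv.coe_toRingHom,
      RingEquiv.apply_symm_apply]
    exact (congr($(hkM) v)).symm)
  refine ⟨Spec.map (CommRingCat.ofHom ev) ≫ hU.fromSpec, ?_, ?_⟩
  · rw [Category.assoc, ← hφ, ← Spec.map_comp, ← CommRingCat.ofHom_comp, hev]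
  · rw [Scheme.Hom.comp_apply]
    refine Specializes.map ((PrimeSpectrum.le_iff_specializes _ _).mp ?_) hU.fromSpec.continuous
    intro a ha
    refine (IsLocalRing.mem_maximalIdeal _).mpr fun hu => ?_
    refine hu.ne_zero ?_
    simp [ev, Ideal.Quotient.eq_zero_iff_mem.mpr (hqM ha)]

/-- A rational point of the closed fibre in the closure of the generic fibre lifts to a section. -/
theorem exists_section (K : Type u) [Field K] [IsAlgClosed K] [Algebra V K] [IsFractionRing V K]
    {k : Type u} [Field k] (τ : V →+* k) (hτ : Function.Surjective τ) (ξ : Spec (.of k) ⟶ Z)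
    (hξ : ξ ≫ p = Spec.map (CommRingCat.ofHom τ)) (x' : Z) (hx' : x' ⤳ ξ (closedPoint k))
    (hgen : p x' = genPt V) :
    ∃ s : Spec (.of V) ⟶ Z, s ≫ p = 𝟙 _ ∧ Spec.map (CommRingCat.ofHom τ) ≫ s = ξ := by
  obtain ⟨U, hU, hxU, -⟩ :=
    exists_isAffineOpen_mem_and_subset (x := ξ (closedPoint k)) (U := ⊤) trivial
  obtain ⟨φ, hφft, hφ⟩ := exists_ringHom p hU
  obtain ⟨q, rfl⟩ : x' ∈ Set.range hU.fromSpec := by
    rw [hU.range_fromSpec]; exact hx'.mem_open U.2 hxU
  obtain ⟨ev, hev⟩ : ∃ ev : Γ(Z, U) ⟶ .of k, Spec.map ev ≫ hU.fromSpec = ξ := by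
    refine ⟨Spec.preimage (IsOpenImmersion.lift hU.fromSpec ξ ?_), by
      rw [Spec.map_preimage, IsOpenImmersion.lift_fac]⟩
    rintro _ ⟨z, rfl⟩
    rw [hU.range_fromSpec]
    rwa [Subsingleton.elim z (closedPoint k)]
  have hevφ : ev.hom.comp φ = τ := congrArg CommRingCat.Hom.hom
    (Spec.map_injective (a₁ := CommRingCat.ofHom φ ≫ ev) (a₂ := CommRingCat.ofHom τ)
      (by rw [Spec.map_comp, hφ, ← Category.assoc, hev, hξ]))
  have hqev : (q : PrimeSpectrum Γ(Z, U)).asIdeal ≤ RingHom.ker ev.hom := by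
    intro a ha
    have hsp : (q : Spec Γ(Z, U)) ⤳ Spec.map ev (closedPoint k) := by
      rw [hU.fromSpec.isOpenEmbedding.isInducing.specializes_iff.symm]
      rwa [← hev, Scheme.Hom.comp_apply] at hx'
    have h := (PrimeSpectrum.le_iff_specializes _ _).mpr hsp ha
    by_contra h0
    exact (IsLocalRing.mem_maximalIdeal _).mp h (isUnit_iff_ne_zero.mpr h0)
  have hq0 : (q : PrimeSpectrum Γ(Z, U)).asIdeal.comap φ = ⊥ := by
    rw [← Scheme.Hom.comp_apply, ← hφ] at hgen
    exact congrArg PrimeSpectrum.asIdeal hgen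
  have := (q : PrimeSpectrum Γ(Z, U)).2
  let C := Γ(Z, U) ⧸ (q : PrimeSpectrum Γ(Z, U)).asIdeal
  let φC : V →+* C := (Ideal.Quotient.mk _).comp φ
  algebraize [φC]
  have : Algebra.FiniteType V C :=
    (RingHom.FiniteType.of_surjective (Ideal.Quotient.mk (q : PrimeSpectrum Γ(Z, U)).asIdeal)
      Ideal.Quotient.mk_surjective).comp hφft
  have hinj : Function.Injective (algebraMap V C) :=
    (RingHom.injective_iff_ker_eq_bot φC).mpr (by
      rw [← RingHom.comap_ker, Ideal.mk_ker]; exact hq0)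
  let ξC : C →+* k := Ideal.Quotient.lift _ ev.hom fun a ha => hqev ha
  have hξC : ∀ v, ξC (algebraMap V C v) = τ v := fun v => congr($(hevφ) v)
  have hkt : RingHom.ker τ = maximalIdeal V :=
    IsLocalRing.eq_maximalIdeal (RingHom.ker_isMaximal_of_surjective τ hτ)
  obtain ⟨σ, hσ⟩ := ValPoint.exists_point K hinj ξC
    (fun v => by rw [hξC, ← RingHom.mem_ker, hkt])
    (fun c => (hτ (ξC c)).imp fun v hv => hv.symm.trans (hξC v).symm)
  refine ⟨Spec.map (CommRingCat.ofHom (σ.toRingHom.comp (Ideal.Quotient.mk _))) ≫ hU.fromSpec,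
    ?_, ?_⟩
  · rw [Category.assoc, ← hφ, ← Spec.map_comp, ← CommRingCat.ofHom_comp]
    refine (congrArg Spec.map ?_).trans (Spec.map_id _)
    ext v
    exact σ.commutes v
  · rw [← Category.assoc, ← Spec.map_comp, ← hev]
    congr 2
    ext a
    exact (hξC _).symm.trans ((hσ _).trans (Ideal.Quotient.lift_mk _ _ _))

end Groth.Agent.Lib.LimSub.Section
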