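import Groth.Agent.Lib.LimSub.UltraLift
import Groth.Agent.Lib.LimSub.Section
import Groth.Agent.Lib.Lim.Valuative
import Groth.Agent.Lib.Subtrusive.Criterion

/-!
# Universally subtrusive and universally open morphisms descend along limits
-/

noncomputable section

universe u

open CategoryTheory CategoryTheory.Limits AlgebraicGeometry IsLocalRing Subtr
  Groth.Agent.Lib.Lim.Descend Groth.Agent.Lib.Lim.Ultra Groth.Agent.Lib.Lim.Valuative
  Groth.Agent.Lib.Subtrusive.Valuation Groth.Agent.Lib.Subtrusive.Criterion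

namespace Groth.Agent.Lib.LimSub.Descend

instance : MorphismProperty.IsStableUnderBaseChange UnivSSubtrusive.{u} :=
  ⟨fun {_ _ _ _ _ _ _ _} sq hg => univSSubtrusive_of_isPullback sq hg⟩

instance : IsZariskiLocalAtTarget UnivSSubtrusive.{u} := by
  refine .mk' (fun f U hf => univSSubtrusive_of_isPullback
    (isPullback_morphismRestrict f U).flip hf) fun {X Y} f {ι} U hU h => ?_
  refine univSSubtrusive_of_hasLifts fun V _ _ _ g => ?_
  obtain ⟨i, hi⟩ := TopologicalSpace.Opens.mem_iSup.mp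
    (hU.symm ▸ trivial : g (clPt V) ∈ ⨆ i, U i)
  have hg : Set.range g ⊆ Set.range (U i).ι := by
    rw [Scheme.Opens.range_ι]; exact range_subset g hi
  obtain ⟨W, iC, iD, iV, a, b, hb, hab⟩ :=
    univSSubtrusive_iff_hasLifts.mp (h i) V (IsOpenImmersion.lift (U i).ι g hg)
  refine ⟨W, iC, iD, iV, a ≫ (f ⁻¹ᵁ U i).ι, b, hb, ?_⟩
  rw [Category.assoc, ← morphismRestrict_ι, reassoc_of% hab, IsOpenImmersion.lift_fac]

/-- Valuative criterion of universal openness. -/
theorem universallyOpen_of_generizes {X Y : Scheme.{u}} (f : X ⟶ Y) [LocallyOfFinitePresentation f]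
    (h : ∀ (V : Type u) [CommRing V] [IsDomain V] [ValuationRing V]
      (g : Spec (.of V) ⟶ Y) (w : ↑(pullback f g)), pullback.snd f g w = clPt V →
        ∃ w', w' ⤳ w ∧ pullback.snd f g w' = genPt V) : UniversallyOpen f := by
  refine ⟨MorphismProperty.universally_mk' _ _ fun {T} i _ => isOpenMap_of_generalizingMap _ fun x z' hz => ?_⟩
  obtain ⟨V, iC, iD, iV, g, hg1, hg2⟩ := exists_valuationRing_of_specializes hz
  obtain ⟨w, hw1, hw2⟩ := Scheme.Pullback.exists_preimage_pullback x (clPt V) hg2.symm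
  let φ : pullback (pullback.fst i f) g ⟶ pullback f (g ≫ i) :=
    pullback.lift (pullback.fst _ _ ≫ pullback.snd i f) (pullback.snd _ _)
      (by rw [Category.assoc, ← pullback.condition (f := i), pullback.condition_assoc])
  obtain ⟨w', hw', hgen⟩ := h V (g ≫ i) (φ w) (by
    rw [← Scheme.Hom.comp_apply, pullback.lift_snd, hw2])
  let ψ : pullback f (g ≫ i) ⟶ pullback i f :=
    pullback.lift (pullback.snd _ _ ≫ g) (pullback.fst _ _)
      (by rw [Category.assoc, pullback.condition])
  have hψ : φ ≫ ψ = pullback.fst _ g := by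
    refine pullback.hom_ext ?_ ?_
    · rw [Category.assoc, pullback.lift_fst, pullback.lift_snd_assoc, ← pullback.condition]
    · rw [Category.assoc, pullback.lift_snd, pullback.lift_fst]
  refine ⟨ψ w', ?_, ?_⟩
  · have := hw'.map ψ.continuous
    rwa [show ψ (φ w) = x by rw [← Scheme.Hom.comp_apply, hψ, hw1]] at this
  · rw [← hg1, ← hgen, ← Scheme.Hom.comp_apply, ← Scheme.Hom.comp_apply, pullback.lift_fst]

section

variable {J : Type u} (U : Ultrafilter J) (K : J → Type u) [∀ j, Field (K j)] (R : J → Type u)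
  [∀ j, CommRing (R j)] [∀ j, IsDomain (R j)] [∀ j, ValuationRing (R j)]
  [∀ j, Algebra (R j) (K j)] [∀ j, IsFractionRing (R j) (K j)]

/-- The residue map of the ultraproduct valuation ring. -/
def residueMap : VV U K R →+* KK U (fun j => ResidueField (R j)) :=
  RingHom.liftOfSurjective (mkV U K R) (RingHom.rangeRestrict_surjective _)
    ⟨(mkK U _).comp (RingHom.pi fun j => (residue (R j)).comp (Pi.evalRingHom R j)), fun a ha => by
      refine (mkK_eq_zero_iff U _).mpr ?_
      have h0 : mkV U K R a = mkV U K R 0 := (RingHom.mem_ker.mp ha).trans (map_zero _).symm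
      exact (UltraLift.mkV_faithful (U := U) K R h0).mono fun j hj => by simp [hj]⟩

theorem residueMap_mk (a : ∀ j, R j) :
    residueMap U K R (mkV U K R a) = mkK U _ fun j => residue (R j) (a j) :=
  RingHom.liftOfRightInverse_comp_apply (mkV U K R) _
    (Function.rightInverse_surjInv (RingHom.rangeRestrict_surjective _)) _ a

theorem residueMap_surjective : Function.Surjective (residueMap U K R) := fun x => by
  obtain ⟨b, rfl⟩ := Ideal.Quotient.mk_surjective x
  choose a ha using fun j => residue_surjective (b j)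
  exact ⟨mkV U K R a, (residueMap_mk U K R a).trans (congrArg _ (funext ha))⟩

end

variable {I : Type u} [SmallCategory I]

theorem univSSubtrusive_descendsAffine :
    DescendsAffine @UnivSSubtrusive.{u} @LocallyOfFinitePresentation := by
  intro I _ _ D c hc hobj hD i₀ X₀ f₀ hcX hqX hQ X f qX hX hP
  have : LocallyOfFinitePresentation f₀ := hQ
  have (i : I) : IsAffine (D.obj i) := hobj i
  by_contra hne
  push Not at hne
  let D' := Over.forget i₀ ⋙ D
  let c' := c.whisker (Over.forget i₀)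
  have hc' : IsLimit c' := (Functor.Initial.isLimitWhiskerEquiv (Over.forget i₀) c).symm hc
  have (k : Over i₀) : IsAffine (D'.obj k) := hobj k.left
  have hfail : ∀ j : Stage (Over i₀), ∃ (L : Type u) (_ : Field L) (_ : IsAlgClosed L)
      (A : ValuationSubring L) (y : Spec (.of A) ⟶ D.obj j.k.left),
      ∀ l : Spec (.of A) ⟶ X₀, l ≫ f₀ ≠ y ≫ D.map j.k.hom := by
    intro j
    by_contra h
    push Not at h
    refine hne j.k.left j.k.hom (univSSubtrusive_of_hasLifts fun V _ _ _ g => ?_)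
    obtain ⟨L, iF, iA, A, a, -, ha, hloc, -⟩ :=
      AlgClosed.exists_valExt V (ResidueField V) (residue V) (ker_residue)
    obtain ⟨l, hl⟩ := h L iF iA A (Spec.map (CommRingCat.ofHom a) ≫ g)
    refine ⟨A, inferInstance, inferInstance, inferInstance,
      pullback.lift l (Spec.map (CommRingCat.ofHom a) ≫ g) hl, Spec.map (CommRingCat.ofHom a),
      surjective_specMap a ha, pullback.lift_snd _ _ _⟩
  choose L iF iA A ys hys using hfail
  let R := fun j => ↥(A j)
  obtain ⟨yl, hyl⟩ := exists_limit D' hc' (valULim (stageUF (Over i₀)) L R) ys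
  let top : Over i₀ := Over.mk (𝟙 i₀)
  let y₀ : Spec (.of (VV (stageUF (Over i₀)) L R)) ⟶ D.obj i₀ := yl ≫ c.π.app i₀
  let q : pullback f₀ y₀ ⟶ X := hX.lift (pullback.fst f₀ y₀) (pullback.snd f₀ y₀ ≫ yl)
    (pullback.condition.trans (Category.assoc _ _ _).symm)
  have hZ : IsPullback q (pullback.snd f₀ y₀) f yl :=
    IsPullback.of_right (by rw [IsPullback.lift_fst]; exact IsPullback.of_hasPullback f₀ y₀)
      (hX.lift_snd _ _ _) hX
  obtain ⟨x, x', hxx, hx, hx'⟩ := isSSubtrusive_of_univ (univSSubtrusive_of_isPullback hZ hP)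
    (genPt_specializes (clPt (VV (stageUF (Over i₀)) L R)))
  have : IsAlgClosed (KK (stageUF (Over i₀)) L) := UltraLift.isAlgClosed_KK L
  have := AlgClosed.isAlgClosed_residueField (VV (stageUF (Over i₀)) L R) (KK (stageUF (Over i₀)) L)
  obtain ⟨ξ, hξ, hspec⟩ := Section.exists_rational_specialization (pullback.snd f₀ y₀)
    (residue (VV (stageUF (Over i₀)) L R)) residue_surjective x hx
  obtain ⟨s, hs, -⟩ := Section.exists_section (pullback.snd f₀ y₀) (KK (stageUF (Over i₀)) L)
    (residue _) residue_surjective ξ hξ x' (hxx.trans hspec) hx'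
  have hl : (s ≫ pullback.fst f₀ y₀) ≫ f₀ = y₀ := by
    rw [Category.assoc, pullback.condition, reassoc_of% hs]
  obtain ⟨ls, -, hls⟩ := UltraLift.exists_lift f₀ (UltraLift.mkV_faithful L R)
    (RingHom.rangeRestrict_surjective _) (hyl top) (s ≫ pullback.fst f₀ y₀) hl
  obtain ⟨j, hj, lj, -, hlj⟩ := ((eventually_objs top).and hls).exists
  rw [fam_eq _ _ _ _ hj] at hlj
  refine hys j lj ((Option.some.inj hlj).symm.trans ?_)
  exact congrArg (ys j ≫ D.map ·) ((Category.comp_id _).symm.trans (Over.w (j.χ top hj)))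

theorem universallyOpen_descendsAffine :
    DescendsAffine @UniversallyOpen.{u} @LocallyOfFinitePresentation := by
  intro I _ _ D c hc hobj hD i₀ X₀ f₀ hcX hqX hQ X f qX hX hP
  have : LocallyOfFinitePresentation f₀ := hQ
  have (i : I) : IsAffine (D.obj i) := hobj i
  by_contra hne
  push Not at hne
  let D' := Over.forget i₀ ⋙ D
  let c' := c.whisker (Over.forget i₀)
  have hc' : IsLimit c' := (Functor.Initial.isLimitWhiskerEquiv (Over.forget i₀) c).symm hc
  have (k : Over i₀) : IsAffine (D'.obj k) := hobj k.left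
  have hfail : ∀ j : Stage (Over i₀), ∃ (L : Type u) (_ : Field L) (_ : IsAlgClosed L)
      (A : ValuationSubring L) (y : Spec (.of A) ⟶ D.obj j.k.left)
      (ξ : Spec (.of (ResidueField A)) ⟶ X₀),
      ξ ≫ f₀ = Spec.map (CommRingCat.ofHom (residue A)) ≫ y ≫ D.map j.k.hom ∧
      ∀ l : Spec (.of A) ⟶ X₀, l ≫ f₀ = y ≫ D.map j.k.hom →
        Spec.map (CommRingCat.ofHom (residue A)) ≫ l ≠ ξ := by
    intro j
    by_contra h
    push Not at h
    refine hne j.k.left j.k.hom (universallyOpen_of_generizes _ fun V _ _ _ g w hw => ?_)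
    let P := pullback (pullback.snd f₀ (D.map j.k.hom)) g
    obtain ⟨ρ, hρ⟩ := Spec.map_surjective (P.fromSpecResidueField w ≫ pullback.snd _ g)
    have hker : RingHom.ker ρ.hom = maximalIdeal V := by
      have h1 : Spec.map ρ (closedPoint (P.residueField w)) = clPt V := by
        rw [hρ, Scheme.Hom.comp_apply, Scheme.fromSpecResidueField_apply, hw]
      have h2 := congrArg PrimeSpectrum.asIdeal h1
      refine Eq.trans ?_ h2
      change RingHom.ker ρ.hom = (maximalIdeal (P.residueField w)).comap ρ.hom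
      rw [IsLocalRing.maximalIdeal_eq_bot, RingHom.ker_eq_comap_bot]
    obtain ⟨L, iF, iA, A, a, e, ha, hloc, he⟩ :=
      AlgClosed.exists_valExt V (P.residueField w) ρ.hom hker
    let pt : Spec (.of (ResidueField A)) ⟶ P :=
      Spec.map (CommRingCat.ofHom e) ≫ P.fromSpecResidueField w
    have hpt : pt ≫ pullback.snd _ g =
        Spec.map (CommRingCat.ofHom (residue A)) ≫ Spec.map (CommRingCat.ofHom a) := by
      rw [Category.assoc, ← hρ, ← Spec.map_comp, ← Spec.map_comp, ← CommRingCat.ofHom_comp, ← he]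
      rfl
    obtain ⟨l, hl, hl'⟩ := h L iF iA A (Spec.map (CommRingCat.ofHom a) ≫ g)
      (pt ≫ pullback.fst _ g ≫ pullback.fst f₀ _) (by
        simp only [Category.assoc, pullback.condition, pullback.condition_assoc]
        rw [reassoc_of% hpt])
    let hA : Spec (.of A) ⟶ P :=
      pullback.lift (pullback.lift l (Spec.map (CommRingCat.ofHom a) ≫ g) hl)
        (Spec.map (CommRingCat.ofHom a)) (pullback.lift_snd _ _ _)
    have hAres : Spec.map (CommRingCat.ofHom (residue A)) ≫ hA = pt := by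
      refine pullback.hom_ext (pullback.hom_ext ?_ ?_) ?_
      · simp only [hA, Category.assoc, pullback.lift_fst_assoc, pullback.lift_fst, hl']
      · simp only [hA, Category.assoc, pullback.lift_fst_assoc, pullback.lift_snd]
        rw [pullback.condition, reassoc_of% hpt]
      · simp only [hA, Category.assoc, pullback.lift_snd, hpt]
    refine ⟨hA (genPt A), ?_, ?_⟩
    · have hw' : hA (clPt A) = w := by
        have h1 : Spec.map (CommRingCat.ofHom (residue A)) (clPt (ResidueField A)) = clPt A :=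
          specMap_clPt _
        rw [← h1, ← Scheme.Hom.comp_apply, hAres, Scheme.Hom.comp_apply,
          Scheme.fromSpecResidueField_apply]
      exact hw' ▸ (genPt_specializes (clPt A)).map hA.continuous
    · rw [← Scheme.Hom.comp_apply, pullback.lift_snd]
      exact specMap_genPt a ha
  choose L iF iA A ys ξs hξs hys using hfail
  let R := fun j => ↥(A j)
  let 𝔘 := stageUF (Over i₀)
  obtain ⟨yl, hyl⟩ := exists_limit D' hc' (valULim 𝔘 L R) ys
  let top : Over i₀ := Over.mk (𝟙 i₀)
  have htop : ∀ (j : Stage (Over i₀)) (hj : top ∈ j.objs),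
      fam D' ys top j = some (ys j ≫ D.map j.k.hom) := fun j hj => by
    rw [fam_eq _ _ _ _ hj]
    exact congrArg (fun φ => some (ys j ≫ D.map φ))
      ((Category.comp_id _).symm.trans (Over.w (j.χ top hj)))
  let y₀ : Spec (.of (VV 𝔘 L R)) ⟶ D.obj i₀ := yl ≫ c.π.app i₀
  let us : ∀ j, Option (Spec (.of (ResidueField (R j))) ⟶ X₀) := fun j => some (ξs j)
  obtain ⟨(ξl : Spec (.of (KK 𝔘 fun j => ResidueField (R j))) ⟶ X₀), hξl⟩ := exists_isULim (fieldULim 𝔘 (fun j => ResidueField (R j))) us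
    (Filter.Eventually.of_forall fun j => ⟨_, rfl⟩)
  let τ := residueMap 𝔘 L R
  have hτ := residueMap_surjective 𝔘 L R
  have hyτ := (hyl top).specMap (M := fieldULim 𝔘 (fun j => ResidueField (R j)))
    (fun j => residue (R j)) τ (residueMap_mk 𝔘 L R)
  have hξf : ξl ≫ f₀ = Spec.map (CommRingCat.ofHom τ) ≫ y₀ := by
    refine IsULim.unique (hξl.comp f₀) (hyτ.congr ?_)
    filter_upwards [eventually_objs top] with j hj
    refine (congrArg (Option.map _) (htop j hj)).trans ?_
    exact congrArg some (hξs j).symm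
  let q : pullback f₀ y₀ ⟶ X := hX.lift (pullback.fst f₀ y₀) (pullback.snd f₀ y₀ ≫ yl)
    (pullback.condition.trans (Category.assoc _ _ _).symm)
  have hZ : IsPullback q (pullback.snd f₀ y₀) f yl :=
    IsPullback.of_right (by rw [IsPullback.lift_fst]; exact IsPullback.of_hasPullback f₀ y₀)
      (hX.lift_snd _ _ _) hX
  have : UniversallyOpen (pullback.snd f₀ y₀) := MorphismProperty.of_isPullback hZ hP
  let ξ : Spec (.of (KK 𝔘 fun j => ResidueField (R j))) ⟶ pullback f₀ y₀ :=
    pullback.lift ξl (Spec.map (CommRingCat.ofHom τ)) hξf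
  have hcl : pullback.snd f₀ y₀ (ξ (closedPoint _)) = clPt (VV 𝔘 L R) := by
    rw [← Scheme.Hom.comp_apply, pullback.lift_snd]
    have : IsLocalHom τ := IsLocalHom.of_surjective τ hτ
    exact specMap_clPt τ
  have hmem : ξ (closedPoint _) ∈ closure (pullback.snd f₀ y₀ ⁻¹' {genPt (VV 𝔘 L R)}) := by
    rw [mem_closure_iff]
    intro o ho hwo
    obtain ⟨z, hz, hzg⟩ := (genPt_specializes _).mem_open
      ((pullback.snd f₀ y₀).isOpenMap o ho) ⟨_, hwo, rfl⟩
    exact ⟨z, hz, hzg⟩
  obtain ⟨x', hx', hgen⟩ := exists_generization_of_mem_closure _ hmem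
  have : IsAlgClosed (KK 𝔘 L) := UltraLift.isAlgClosed_KK L
  obtain ⟨s, hs, hsξ⟩ := Section.exists_section (pullback.snd f₀ y₀) (KK 𝔘 L) τ hτ ξ
    (pullback.lift_snd _ _ _) x' hx' hgen
  let l := s ≫ pullback.fst f₀ y₀
  have hl : l ≫ f₀ = y₀ := by rw [Category.assoc, pullback.condition, reassoc_of% hs]
  obtain ⟨ls, hlim, hls⟩ := UltraLift.exists_lift f₀ (UltraLift.mkV_faithful L R)
    (RingHom.rangeRestrict_surjective _) (hyl top) l hl
  have hlτ : Spec.map (CommRingCat.ofHom τ) ≫ l = ξl := by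
    rw [← Category.assoc, hsξ, pullback.lift_fst]
  have hlim' := hlim.specMap (M := fieldULim 𝔘 (fun j => ResidueField (R j)))
    (fun j => residue (R j)) τ (residueMap_mk 𝔘 L R)
  have hev := UltraLift.eventually_eq f₀ (UltraLift.mkK_faithful _) hξl (hlτ ▸ hlim') (by
    filter_upwards [eventually_objs top, hls] with j hj ⟨lj, hlj, hlj'⟩
    rw [hlj, Option.map_some, Option.map_some, Option.map_some]
    rw [htop j hj] at hlj'
    rw [hξs j, Option.some.inj hlj', Category.assoc])
  obtain ⟨j, hj, he, lj, hlj, hlj'⟩ := ((eventually_objs top).and (hev.and hls)).exists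
  rw [hlj, Option.map_some] at he
  rw [htop j hj] at hlj'
  exact hys j lj (Option.some.inj hlj').symm (Option.some.inj he).symm

/-- A variant of `descend_over` which only needs the target at the stage to be compact. -/
theorem descend_over_compact {P Q : MorphismProperty Scheme.{u}} [IsZariskiLocalAtTarget P]
    [P.IsStableUnderBaseChange] [Q.IsStableUnderBaseChange] (H : DescendsAffine P Q)
    [IsCofiltered I] (D : I ⥤ Scheme.{u}) (c : Cone D) (hc : IsLimit c)
    [∀ (i j : I) (f : i ⟶ j), IsAffineHom (D.map f)] (i₀ : I)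
    {X₀ Y₀ : Scheme.{u}} (f₀ : X₀ ⟶ Y₀) (g₀ : Y₀ ⟶ D.obj i₀) [CompactSpace Y₀]
    [QuasiCompact f₀] [QuasiSeparated f₀]
    {X Y : Scheme.{u}} (f : X ⟶ Y) (g : Y ⟶ c.pt) (qY : Y ⟶ Y₀) (qX : X ⟶ X₀)
    (hY : IsPullback qY g g₀ (c.π.app i₀)) (hX : IsPullback qX f f₀ qY) (hQ : Q f₀) (hP : P f) :
    ∃ (i : I) (φ : i ⟶ i₀) (Xi Yi : Scheme.{u}) (fi : Xi ⟶ Yi) (gi : Yi ⟶ D.obj i) (pY : Yi ⟶ Y₀)
      (pX : Xi ⟶ X₀), IsPullback pY gi g₀ (D.map φ) ∧ IsPullback pX fi f₀ pY ∧ P fi := by
  have hD' : ∀ {i j : I} (g : i ⟶ j), IsAffineHom (D.map g) := fun g => inferInstance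
  let 𝒰 := Y₀.affineCover.finiteSubcover
  let U : 𝒰.I₀ → Y₀.Opens := fun k => (𝒰.f k).opensRange
  have hUaff : ∀ k, IsAffineOpen (U k) := fun k =>
    have : IsAffine (𝒰.X k) := inferInstanceAs (IsAffine (Spec _))
    isAffineOpen_opensRange _
  have hk : ∀ k, ∃ (i : I) (φ : i ⟶ i₀), P (pullback.snd (pullback.snd f₀ (U k).ι)
      (pullback.fst ((U k).ι ≫ g₀) (D.map φ))) := by
    intro k
    have : IsAffine (U k) := hUaff k
    have : CompactSpace ↥(pullback f₀ (U k).ι) :=
      QuasiCompact.compactSpace_of_compactSpace (pullback.snd f₀ (U k).ι)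
    have : QuasiSeparatedSpace ↥(pullback f₀ (U k).ι) :=
      quasiSeparatedSpace_of_quasiSeparated (pullback.snd f₀ (U k).ι)
    have h : IsPullback (pullback.fst (U k).ι qY) (pullback.snd (U k).ι qY ≫ g) ((U k).ι ≫ g₀)
        (c.π.app i₀) := (IsPullback.of_hasPullback (U k).ι qY).paste_vert hY
    have hobj : ∀ j, IsAffine ((Lim.Basic.bcDiagram D ((U k).ι ≫ g₀)).obj j) := fun j =>
      have : IsAffineHom (pullback.fst ((U k).ι ≫ g₀) (D.map j.hom)) :=
        Lim.Basic.isAffineHom_fst D ((U k).ι ≫ g₀) j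
      @isAffine_of_isAffineHom _ _ (pullback.fst ((U k).ι ≫ g₀) (D.map j.hom)) this _
    have hZ := IsPullback.of_hasPullback f (pullback.snd (U k).ι qY)
    refine descend_bc h (H _ _ (Lim.Basic.isLimitBcCone hc h) hobj (fun _ _ g => inferInstance) _)
      (pullback.snd f₀ (U k).ι) inferInstance inferInstance (MorphismProperty.pullback_snd _ _ hQ)
      (pullback.snd f (pullback.snd (U k).ι qY))
      (pullback.lift (pullback.fst f _ ≫ qX) (pullback.snd f _ ≫ pullback.fst _ _) ?_) ?_
      (MorphismProperty.pullback_snd _ _ hP)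
    · simp [hX.w, pullback.condition, reassoc_of% hZ.w]
    · refine IsPullback.of_right ?_ (pullback.lift_snd _ _ _)
        (IsPullback.of_hasPullback f₀ (U k).ι)
      rw [pullback.lift_fst, (IsPullback.of_hasPullback (U k).ι qY).w]
      exact hZ.paste_horiz hX
  choose i φ hi using hk
  obtain ⟨j, ψ, χ, hχ⟩ := IsCofiltered.wideCospan φ
  refine ⟨j, ψ, _, _, pullback.snd f₀ (pullback.fst g₀ (D.map ψ)), pullback.snd _ _,
    pullback.fst _ _, pullback.fst _ _, IsPullback.of_hasPullback _ _,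
    IsPullback.of_hasPullback _ _, ?_⟩
  let pY := pullback.fst g₀ (D.map ψ)
  refine IsZariskiLocalAtTarget.of_iSup_eq_top (fun k => pY ⁻¹ᵁ U k) ?_ fun k => ?_
  · rw [← Scheme.Hom.preimage_iSup, 𝒰.iSup_opensRange]
    rfl
  · have h1 := (isPullback_morphismRestrict (pullback.snd f₀ pY) (pY ⁻¹ᵁ U k)).flip
      |>.paste_horiz (IsPullback.of_hasPullback f₀ pY)
    refine prop_of_factor (hi k) (pullback.lift (pY ∣_ U k)
      ((pY ⁻¹ᵁ U k).ι ≫ pullback.snd g₀ (D.map ψ) ≫ D.map (χ k)) ?_) (b' := pY ∣_ U k)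
      (pullback.lift_fst _ _ _)
      (fst := pullback.lift ((pullback.snd f₀ pY ⁻¹ᵁ (pY ⁻¹ᵁ U k)).ι ≫ pullback.fst _ _)
        ((pullback.snd f₀ pY ∣_ (pY ⁻¹ᵁ U k)) ≫ (pY ∣_ U k)) ?_) ?_
    · rw [morphismRestrict_ι_assoc, Category.assoc, Category.assoc, ← D.map_comp, hχ,
        pullback.condition]
    · simp only [Category.assoc, morphismRestrict_ι]
      exact (Category.assoc _ _ _).symm.trans h1.w
    · refine IsPullback.of_right ?_ (pullback.lift_snd _ _ _)
        (IsPullback.of_hasPullback f₀ (U k).ι)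
      rw [pullback.lift_fst, morphismRestrict_ι]
      exact h1

end Groth.Agent.Lib.LimSub.Descend
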