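import Groth.Prelude.Def_W4c2submetdescSubtr
import Groth.Agent.Lib.LimTop.OpenMap

/-!
# Limits of subtrusive morphisms are subtrusive
-/

noncomputable section

universe u

open CategoryTheory CategoryTheory.Limits AlgebraicGeometry Subtr TopologicalSpace Topology
open Groth.Agent.Lib.LimTop.PC Groth.Agent.Lib.LimTop.Points Groth.Agent.Lib.LimTop.OpenMap
open Groth.Agent.Lib.Lim.Basic

namespace Groth.Agent.Lib.LimSub.LimitSubtrusive

variable {I : Type u} [SmallCategory I] [IsCofiltered I] {D : I ⥤ Scheme.{u}} {c : Cone D}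

theorem isSSubtrusive_limit (hc : IsLimit c) [∀ (i j : I) (a : i ⟶ j), IsAffineHom (D.map a)]
    {i₀ : I} {X₀ Y₀ : Scheme.{u}} (f₀ : X₀ ⟶ Y₀) (g₀ : Y₀ ⟶ D.obj i₀) [QuasiCompact f₀]
    {i₁ : I} (ψ : i₁ ⟶ i₀) (h : ∀ (i : I) (φ : i ⟶ i₁),
      IsSSubtrusive (pullback.snd f₀ (pullback.fst g₀ (D.map (φ ≫ ψ))))) :
    IsSSubtrusive (pullback.snd f₀ (pullback.fst g₀ (c.π.app i₀))) := by
  have hD' : ∀ {i j : I} (g : i ⟶ j), IsAffineHom (D.map g) := fun g => inferInstance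
  intro y y' hy
  let qY := pullback.fst g₀ (c.π.app i₀)
  obtain ⟨W, hW, hyW, -⟩ := exists_isAffineOpen_mem_and_subset (x := qY y) (U := ⊤) trivial
  have hy'W : qY y' ∈ W := (hy.map qY.continuous).mem_open W.2 hyW
  let T := (f₀ ⁻¹ᵁ W).toScheme
  have : CompactSpace T := isCompact_iff_compactSpace.mp (f₀.isCompact_preimage hW.isCompact)
  let a : T ⟶ D.obj i₀ := (f₀ ⁻¹ᵁ W).ι ≫ f₀ ≫ g₀
  have hPX := IsPullback.of_hasPullback a (c.π.app i₀)
  have hPY := IsPullback.of_hasPullback g₀ (c.π.app i₀)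
  have hlimX := isLimitBcCone hc hPX
  have hlimY := isLimitBcCone hc hPY
  have : ∀ (m n : Over i₀) (e : m ⟶ n), IsAffineHom ((bcDiagram D a).map e) :=
    fun _ _ e => inferInstance
  have : ∀ (m n : Over i₀) (e : m ⟶ n), IsAffineHom ((bcDiagram D g₀).map e) :=
    fun _ _ e => inferInstance
  let MX : ∀ {m n : Over i₀} (φ : m ⟶ n), pullback a (D.map m.hom) ⟶ pullback a (D.map n.hom) :=
    fun φ => (bcDiagram D a).map φ
  let MY : ∀ {m n : Over i₀} (φ : m ⟶ n), pullback g₀ (D.map m.hom) ⟶ pullback g₀ (D.map n.hom) :=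
    fun φ => (bcDiagram D g₀).map φ
  let πX : ∀ m : Over i₀, pullback a (c.π.app i₀) ⟶ pullback a (D.map m.hom) := fun m =>
    (bcCone hPX.w).π.app m
  let πY : ∀ m : Over i₀, pullback g₀ (c.π.app i₀) ⟶ pullback g₀ (D.map m.hom) := fun m =>
    (bcCone hPY.w).π.app m
  have hX1 : ∀ m, πX m ≫ pullback.fst a _ = pullback.fst _ _ := fun m => bcCone_π_fst hPX.w m
  have hX2 : ∀ m, πX m ≫ pullback.snd a _ = pullback.snd _ _ ≫ c.π.app m.left :=
    fun m => bcCone_π_snd hPX.w m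
  have hY1 : ∀ m, πY m ≫ pullback.fst g₀ _ = pullback.fst _ _ := fun m => bcCone_π_fst hPY.w m
  have hY2 : ∀ m, πY m ≫ pullback.snd g₀ _ = pullback.snd _ _ ≫ c.π.app m.left :=
    fun m => bcCone_π_snd hPY.w m
  have hw : ∀ {Z : Scheme.{u}} (φ : Z ⟶ D.obj i₀), pullback.fst a φ ≫ (f₀ ⁻¹ᵁ W).ι ≫ f₀ ≫ g₀ =
      pullback.snd a φ ≫ φ := fun φ => pullback.condition
  let e : ∀ m : Over i₀, pullback a (D.map m.hom) ⟶ pullback g₀ (D.map m.hom) := fun m =>
    pullback.lift (pullback.fst a (D.map m.hom) ≫ (f₀ ⁻¹ᵁ W).ι ≫ f₀) (pullback.snd a (D.map m.hom))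
      (by simpa only [Category.assoc] using hw (D.map m.hom))
  have he1 : ∀ m, e m ≫ pullback.fst g₀ _ = pullback.fst a _ ≫ (f₀ ⁻¹ᵁ W).ι ≫ f₀ :=
    fun m => pullback.lift_fst _ _ _
  have he2 : ∀ m, e m ≫ pullback.snd g₀ _ = pullback.snd a _ := fun m => pullback.lift_snd _ _ _
  have hMX1 : ∀ {m n : Over i₀} (φ : m ⟶ n), MX φ ≫ pullback.fst a _ = pullback.fst a _ :=
    fun φ => bcDiagram_map_fst D a φ
  have hMX2 : ∀ {m n : Over i₀} (φ : m ⟶ n),
      MX φ ≫ pullback.snd a _ = pullback.snd a _ ≫ D.map φ.left := fun φ => bcDiagram_map_snd D a φ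
  have hMY1 : ∀ {m n : Over i₀} (φ : m ⟶ n), MY φ ≫ pullback.fst g₀ _ = pullback.fst g₀ _ :=
    fun φ => bcDiagram_map_fst D g₀ φ
  have hMY2 : ∀ {m n : Over i₀} (φ : m ⟶ n),
      MY φ ≫ pullback.snd g₀ _ = pullback.snd g₀ _ ≫ D.map φ.left := fun φ => bcDiagram_map_snd D g₀ φ
  have enat : ∀ {m n : Over i₀} (φ : m ⟶ n), MX φ ≫ e n = e m ≫ MY φ := fun {m n} φ => by
    apply pullback.hom_ext
    · rw [Category.assoc, Category.assoc, he1, hMY1, he1, reassoc_of% hMX1 φ]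
    · rw [Category.assoc, Category.assoc, he2, hMY2, hMX2, reassoc_of% he2]
  have hπX : ∀ {m n : Over i₀} (φ : m ⟶ n) (z : _), MX φ (πX m z) = πX n z :=
    fun φ z => π_map_apply (c := bcCone hPX.w) φ z
  let ye : ∀ m : Over i₀, (pullback g₀ (D.map m.hom) : Scheme.{u}) := fun m => πY m y
  let ye' : ∀ m : Over i₀, (pullback g₀ (D.map m.hom) : Scheme.{u}) := fun m => πY m y'
  have hye : ∀ {m n : Over i₀} (φ : m ⟶ n) (z : _),
      MY φ (πY m z) = πY n z :=
    fun φ z => π_map_apply (c := bcCone hPY.w) φ z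
  let E : pullback a (c.π.app i₀) ⟶ pullback g₀ (c.π.app i₀) :=
    pullback.lift (pullback.fst _ _ ≫ (f₀ ⁻¹ᵁ W).ι ≫ f₀) (pullback.snd _ _)
      (by simpa [a] using pullback.condition (f := a) (g := c.π.app i₀))
  have hE : ∀ m, πX m ≫ e m = E ≫ πY m := fun m => by
    apply pullback.hom_ext
    · rw [Category.assoc, Category.assoc, pullback.lift_fst, hY1, pullback.lift_fst,
        reassoc_of% hX1]
    · rw [Category.assoc, Category.assoc, pullback.lift_snd, hY2, pullback.lift_snd_assoc, hX2]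
  let b : Over i₀ := Over.mk ψ
  have hne : ∀ (m : Over i₀) (φ : m ⟶ b), ∃ x x' : (pullback a (D.map m.hom) : Scheme.{u}),
      x' ⤳ x ∧ e m x = ye m ∧ e m x' = ye' m := by
    intro m φ
    have hm : φ.left ≫ ψ = m.hom := Over.w φ
    have hs : IsSSubtrusive (pullback.snd f₀ (pullback.fst g₀ (D.map m.hom))) := hm ▸ h m.left φ.left
    obtain ⟨z, z', hzz, hz, hz'⟩ := hs (y := ye m) (y' := ye' m)
      (hy.map (πY m).continuous)
    let k : pullback a (D.map m.hom) ⟶ pullback f₀ (pullback.fst g₀ (D.map m.hom)) :=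
      pullback.lift (pullback.fst a (D.map m.hom) ≫ (f₀ ⁻¹ᵁ W).ι) (e m)
        (by rw [Category.assoc, he1])
    have hk : IsPullback (pullback.fst a (D.map m.hom)) k (f₀ ⁻¹ᵁ W).ι
        (pullback.fst f₀ (pullback.fst g₀ (D.map m.hom))) := by
      refine IsPullback.of_bot ?_ (pullback.lift_fst _ _ _).symm
        ((IsPullback.of_hasPullback f₀ _).paste_vert (IsPullback.of_hasPullback g₀ (D.map m.hom)))
      rw [pullback.lift_snd_assoc, pullback.lift_snd]
      exact IsPullback.of_hasPullback a (D.map m.hom)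
    have : IsOpenImmersion k := MorphismProperty.of_isPullback hk inferInstance
    have hrange : ∀ t : (pullback f₀ (pullback.fst g₀ (D.map m.hom)) : Scheme.{u}),
        pullback.fst f₀ _ t ∈ f₀ ⁻¹ᵁ W → ∃ w, k w = t := fun t ht => by
      obtain ⟨w, -, hw⟩ := Scheme.exists_preimage_of_isPullback hk ⟨_, ht⟩ t rfl
      exact ⟨w, hw⟩
    have hmem : ∀ (t : (pullback f₀ (pullback.fst g₀ (D.map m.hom)) : Scheme.{u})) (v : _),
        pullback.snd f₀ _ t = πY m v → qY v ∈ W →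
          pullback.fst f₀ _ t ∈ f₀ ⁻¹ᵁ W := fun t v ht hv => by
      change f₀ (pullback.fst f₀ _ t) ∈ W
      rw [← Scheme.Hom.comp_apply, pullback.condition, Scheme.Hom.comp_apply, ht,
        ← Scheme.Hom.comp_apply, hY1]
      exact hv
    obtain ⟨x, rfl⟩ := hrange z (hmem z y hz hyW)
    obtain ⟨x', rfl⟩ := hrange z' (hmem z' y' hz' hy'W)
    refine ⟨x, x', k.isOpenEmbedding.isInducing.specializes_iff.mp hzz, ?_, ?_⟩
    · rw [← hz, ← Scheme.Hom.comp_apply, pullback.lift_snd]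
    · rw [← hz', ← Scheme.Hom.comp_apply, pullback.lift_snd]
  have : CompactSpace ((bcDiagram D a).obj b) := compactSpace_bcDiagram D a b
  have hmap : ∀ {m n : Over i₀} (φ : m ⟶ n) (z : _) (w : (pullback a (D.map m.hom) : Scheme.{u})),
      e m w = πY m z →
        e n (MX φ w) = πY n z := fun {m n} φ z w hw => by
    rw [← Scheme.Hom.comp_apply, enat, Scheme.Hom.comp_apply, hw, hye]
  obtain ⟨(s : (pullback a (c.π.app i₀) : Scheme.{u})), hs⟩ := exists_mem hlimX b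
    (fun m _ => ⇑(e m) ⁻¹' {ye m} ∩ closure (⇑(e m) ⁻¹' {ye' m}))
    (fun m _ => ((IsPC.singleton _).preimage (e m)).inter (IsPC.of_isClosed isClosed_closure))
    (fun m φ => by
      obtain ⟨x, x', hxx, hx, hx'⟩ := hne m φ
      exact ⟨x, hx, hxx.mem_closed isClosed_closure (subset_closure hx')⟩)
    (fun m n χ φ w hw => ⟨hmap χ y w hw.1,
      map_mem_closure (MX χ).continuous hw.2 fun v hv => hmap χ y' v hv⟩)
  have hEs : ∀ (t : _) (z : _), (∀ (m : Over i₀) (φ : m ⟶ b),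
      e m (πX m t) = πY m z) → E t = z := fun t z ht => by
    refine eq_of_forall hlimY fun n => ?_
    obtain ⟨m, φn, φb, -⟩ := IsCofilteredOrEmpty.cone_objs n b
    have := congrArg (MY φn) (ht m φb)
    rw [← Scheme.Hom.comp_apply (πX m) (e m), hE, Scheme.Hom.comp_apply, hye, hye] at this
    exact this
  have hsy : E s = y := hEs s y fun m φ => (hs m φ).1
  have hcl : (s : (pullback a (c.π.app i₀) : Scheme.{u})) ∈ closure (⇑E ⁻¹' {y'}) := by
    rw [mem_closure_iff]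
    intro O hO hsO
    obtain ⟨n, V, hV, hsV, hVO⟩ := exists_basis_mem hlimX hO hsO
    obtain ⟨m, φn, φb, -⟩ := IsCofilteredOrEmpty.cone_objs n b
    have hV' : IsAffineOpen (MX φn ⁻¹ᵁ V) := hV.preimage ((bcDiagram D a).map φn)
    obtain ⟨(t : (pullback a (c.π.app i₀) : Scheme.{u})), htV, ht⟩ := exists_mem_affine hlimX hV' (fun l _ => ⇑(e l) ⁻¹' {ye' l})
      (fun l _ => (IsPC.singleton _).preimage (e l))
      (fun l χ => by
        obtain ⟨w, hwV, hw⟩ := mem_closure_iff.mp (hs l (χ ≫ φb)).2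
          (⇑(MX χ) ⁻¹' (MX φn ⁻¹ᵁ V : Set _))
          ((MX φn ⁻¹ᵁ V).2.preimage (MX χ).continuous)
          (by
            change MX φn (MX χ (πX l s)) ∈ V
            rw [hπX, hπX]
            exact hsV)
        exact ⟨w, hw, hwV⟩)
      (fun l l' χ φ w hw => hmap χ y' w hw)
    refine ⟨t, hVO ?_, ?_⟩
    · change πX n t ∈ V
      rw [← hπX φn]
      exact htV
    · refine hEs t y' fun l φ => ?_
      obtain ⟨r, φm, φl, -⟩ := IsCofilteredOrEmpty.cone_objs m l
      have := hmap φl y' _ (ht r φm)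
      exact (congrArg (e l) (hπX φl t)).symm.trans this
  obtain ⟨s', hs', hss⟩ := exists_specializes_of_mem_closure ((IsPC.singleton y').preimage E) hcl
  let j : pullback a (c.π.app i₀) ⟶ pullback f₀ qY :=
    pullback.lift (pullback.fst _ _ ≫ (f₀ ⁻¹ᵁ W).ι) E (by rw [Category.assoc]; exact (pullback.lift_fst _ _ _).symm)
  refine ⟨j s, j s', hss.map j.continuous, ?_, ?_⟩
  · rw [← Scheme.Hom.comp_apply, pullback.lift_snd, hsy]
  · rw [← Scheme.Hom.comp_apply, pullback.lift_snd]; exact hs'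

end Groth.Agent.Lib.LimSub.LimitSubtrusive
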