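import Groth.Agent.Lib.Lim.Ultra
import Mathlib.AlgebraicGeometry.Morphisms.FinitePresentation
import Mathlib.FieldTheory.IsAlgClosed.Basic
import Mathlib.RingTheory.FinitePresentation

/-!
# Lifting ultralimits along morphisms of finite presentation
-/

noncomputable section

universe u

open CategoryTheory AlgebraicGeometry IsLocalRing Groth.Agent.Lib.Lim.Ultra

namespace Groth.Agent.Lib.LimSub.UltraLift

variable {J : Type u} {U : Ultrafilter J}

theorem isAlgClosed_KK (K : J → Type u) [∀ j, Field (K j)] [∀ j, IsAlgClosed (K j)] :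
    IsAlgClosed (KK U K) := by
  refine IsAlgClosed.of_exists_root _ fun p hp hirr => ?_
  obtain ⟨q, hqp, hdeg, hq⟩ := Polynomial.lifts_and_natDegree_eq_and_monic
    ((Polynomial.lifts_iff_coeff_lifts (f := mkK U K) p).mpr fun n =>
      Ideal.Quotient.mk_surjective _) hp
  have hroot : ∀ j, ∃ r : K j, (q.map (Pi.evalRingHom K j)).IsRoot r := fun j => by
    refine IsAlgClosed.exists_root _ ?_
    rw [Polynomial.degree_eq_natDegree (hq.map _).ne_zero, hq.natDegree_map, hdeg]
    exact_mod_cast hirr.natDegree_pos.ne'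
  choose r hr using hroot
  refine ⟨mkK U K r, ?_⟩
  have h0 : q.eval r = 0 := funext fun j => by
    have := hr j
    rw [Polynomial.IsRoot, Polynomial.eval_map] at this
    change Pi.evalRingHom K j (q.eval r) = 0
    rw [← Polynomial.eval₂_hom]
    exact this
  rw [← hqp, Polynomial.eval_map, Polynomial.eval₂_hom, h0, map_zero]

variable {A : J → Type u} [∀ j, CommRing (A j)] [∀ j, IsLocalRing (A j)] {L : ULim U A}

theorem mkV_faithful (K : J → Type u) [∀ j, Field (K j)] (R : J → Type u) [∀ j, CommRing (R j)]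
    [∀ j, IsDomain (R j)] [∀ j, ValuationRing (R j)] [∀ j, Algebra (R j) (K j)]
    [∀ j, IsFractionRing (R j) (K j)] {a b : ∀ j, R j}
    (h : (valULim U K R).mk a = (valULim U K R).mk b) : ∀ᶠ j in (U : Filter J), a j = b j :=
  ((mkK_eq_iff U K).mp (congrArg Subtype.val h)).mono fun j hj =>
    IsFractionRing.injective (R j) (K j) hj

theorem mkK_faithful (K : J → Type u) [∀ j, Field (K j)] {a b : ∀ j, K j}
    (h : (fieldULim U K).mk a = (fieldULim U K).mk b) : ∀ᶠ j in (U : Filter J), a j = b j :=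
  (mkK_eq_iff U K).mp h

/-- A morphism of finite presentation lifts ultralimits. -/
theorem exists_lift {X T : Scheme.{u}} (f : X ⟶ T) [LocallyOfFinitePresentation f]
    (hL : ∀ {a b : ∀ j, A j}, L.mk a = L.mk b → ∀ᶠ j in (U : Filter J), a j = b j)
    (hsurj : Function.Surjective L.mk)
    {ys : ∀ j, Option (Spec (.of (A j)) ⟶ T)} {y : Spec (.of L.Q) ⟶ T} (hy : IsULim L y ys)
    (l : Spec (.of L.Q) ⟶ X) (hl : l ≫ f = y) :
    ∃ ls : ∀ j, Option (Spec (.of (A j)) ⟶ X), IsULim L l ls ∧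
      ∀ᶠ j in (U : Filter J), ∃ lj, ls j = some lj ∧ ys j = some (lj ≫ f) := by
  classical
  obtain ⟨_, ⟨W', hW', rfl⟩, hclW', -⟩ := T.isBasis_affineOpens.exists_subset_of_mem_open
    (Set.mem_univ (f (l (closedPoint _)))) isOpen_univ
  obtain ⟨_, ⟨W, hW, rfl⟩, hclW, hWle⟩ := X.isBasis_affineOpens.exists_subset_of_mem_open
    (show l (closedPoint _) ∈ f ⁻¹ᵁ W' from hclW') (f ⁻¹ᵁ W').2
  obtain ⟨ψ, hψ⟩ := exists_chartHom hW hclW
  have hycl : y (closedPoint L.Q) ∈ W' := by
    rw [← hl, Scheme.Hom.comp_apply]; exact hclW'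
  obtain ⟨hys, hyeq⟩ := hy.chart hW' hycl
  have hbase : f.appLE W' W hWle ≫ ψ = chartLim L hW' hys := by
    refine chartHom_unique hW' ?_
    rw [Spec.map_comp, Category.assoc, hW'.SpecMap_appLE_fromSpec f hW hWle,
      ← Category.assoc, hψ, hl, hyeq]
  have hfp : (f.appLE W' W hWle).hom.FinitePresentation :=
    HasRingHomProperty.appLE @LocallyOfFinitePresentation f inferInstance ⟨W', hW'⟩ ⟨W, hW⟩ hWle
  algebraize [(f.appLE W' W hWle).hom]
  obtain ⟨n, π, hπ, hker⟩ := Algebra.FinitePresentation.out (R := Γ(T, W')) (A := Γ(X, W))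
  choose a ha using fun i => hsurj (ψ.hom (π (MvPolynomial.X i)))
  let φ : ∀ j, In (ys j) W' → Γ(T, W') →+* A j := fun j h => (exists_fac hW' h).choose.hom
  let Φ : ∀ j, In (ys j) W' → MvPolynomial (Fin n) Γ(T, W') →+* A j := fun j h =>
    MvPolynomial.eval₂Hom (φ j h) fun i => a i j
  let E : MvPolynomial (Fin n) Γ(T, W') → ∀ j, A j := fun g j =>
    if h : In (ys j) W' then Φ j h g else 0
  have hE : ∀ g, L.mk (E g) = ψ.hom (π g) := by
    intro g
    induction g using MvPolynomial.induction_on with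
    | C c =>
      rw [MvPolynomial.algHom_C]
      refine (L.congr ?_).trans (congr($(hbase).hom c)).symm
      filter_upwards [hys] with j hj
      simp [E, Φ, φ, hj, rep]
    | add p q hp hq =>
      rw [map_add, map_add, ← hp, ← hq, ← map_add]
      refine L.congr ?_
      filter_upwards [hys] with j hj
      simp [E, hj]
    | mul_X p i hp =>
      rw [map_mul, map_mul, ← hp, ← ha i, ← map_mul]
      refine L.congr ?_
      filter_upwards [hys] with j hj
      simp [E, Φ, hj]
  obtain ⟨S, hS⟩ := hker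
  have hgood : ∀ᶠ j in (U : Filter J), ∃ h : In (ys j) W',
      RingHom.ker π.toRingHom ≤ RingHom.ker (Φ j h) := by
    have : ∀ g ∈ S, ∀ᶠ j in (U : Filter J), E g j = (0 : A j) := fun g hg =>
      hL (b := 0) (by
        have : π g = 0 := RingHom.mem_ker.mp (hS.le (Ideal.subset_span hg))
        rw [hE, this, map_zero, map_zero])
    filter_upwards [hys, (Filter.eventually_all_finset S).mpr this] with j hj hjS
    refine ⟨hj, hS.ge.trans (Ideal.span_le.mpr fun g hg => ?_)⟩
    have := hjS g hg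
    simpa [E, hj] using this
  let ls : ∀ j, Option (Spec (.of (A j)) ⟶ X) := fun j =>
    if h : ∃ h : In (ys j) W', RingHom.ker π.toRingHom ≤ RingHom.ker (Φ j h) then
      some (Spec.map (CommRingCat.ofHom
        (RingHom.liftOfSurjective π.toRingHom hπ ⟨Φ j h.1, h.2⟩)) ≫ hW.fromSpec)
    else none
  have hlsW : ∀ᶠ j in (U : Filter J), In (ls j) W :=
    hgood.mono fun j hj => in_of_fac hW (dif_pos hj)
  refine ⟨ls, ⟨W, hW, hlsW, ?_⟩, ?_⟩
  · rw [← hψ]
    congr 2
    ext s
    obtain ⟨g, rfl⟩ := hπ s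
    rw [chartLim_apply, ← hE]
    refine L.congr ?_
    filter_upwards [hgood] with j hj
    rw [rep_eq hW ls _ j (dif_pos hj)]
    simp only [E, dif_pos hj.1, CommRingCat.hom_ofHom]
    exact (RingHom.liftOfRightInverse_comp_apply π.toRingHom _ _ ⟨Φ j hj.1, hj.2⟩ g).symm
  · filter_upwards [hgood] with j hj
    refine ⟨_, dif_pos hj, ?_⟩
    have hφ : f.appLE W' W hWle ≫ CommRingCat.ofHom
        (RingHom.liftOfSurjective π.toRingHom hπ ⟨Φ j hj.1, hj.2⟩) =
        (exists_fac hW' hj.1).choose := by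
      ext c
      have hc : (f.appLE W' W hWle).hom c = π.toRingHom (MvPolynomial.C c) :=
        (π.commutes c).symm
      rw [CommRingCat.hom_comp, RingHom.comp_apply, hc, CommRingCat.hom_ofHom]
      exact (RingHom.liftOfRightInverse_comp_apply π.toRingHom _ _ ⟨Φ j hj.1, hj.2⟩ _).trans
        (MvPolynomial.eval₂Hom_C _ _ _)
    rw [Category.assoc, ← hW'.SpecMap_appLE_fromSpec f hW hWle, ← Category.assoc, ← Spec.map_comp,
      hφ]
    exact (exists_fac hW' hj.1).choose_spec

/-- Families with the same limit and the same images under a morphism of finite type agree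
almost everywhere. -/
theorem eventually_eq {X T : Scheme.{u}} (f : X ⟶ T) [LocallyOfFiniteType f]
    (hL : ∀ {a b : ∀ j, A j}, L.mk a = L.mk b → ∀ᶠ j in (U : Filter J), a j = b j)
    {xs xs' : ∀ j, Option (Spec (.of (A j)) ⟶ X)} {x : Spec (.of L.Q) ⟶ X}
    (hx : IsULim L x xs) (hx' : IsULim L x xs')
    (he : ∀ᶠ j in (U : Filter J), (xs j).map (· ≫ f) = (xs' j).map (· ≫ f)) :
    ∀ᶠ j in (U : Filter J), xs j = xs' j := by
  classical
  obtain ⟨_, ⟨W', hW', rfl⟩, hclW', -⟩ := T.isBasis_affineOpens.exists_subset_of_mem_open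
    (Set.mem_univ (f (x (closedPoint _)))) isOpen_univ
  obtain ⟨_, ⟨W, hW, rfl⟩, hclW, hWle⟩ := X.isBasis_affineOpens.exists_subset_of_mem_open
    (show x (closedPoint _) ∈ f ⁻¹ᵁ W' from hclW') (f ⁻¹ᵁ W').2
  obtain ⟨h, e⟩ := hx.chart hW hclW
  obtain ⟨h', e'⟩ := hx'.chart hW hclW
  have hψ := chartHom_unique hW (e.symm.trans e')
  have hft : (f.appLE W' W hWle).hom.FiniteType :=
    HasRingHomProperty.appLE @LocallyOfFiniteType f inferInstance ⟨W', hW'⟩ ⟨W, hW⟩ hWle
  algebraize [(f.appLE W' W hWle).hom]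
  obtain ⟨t, ht⟩ := Algebra.FiniteType.out (R := Γ(T, W')) (A := Γ(X, W))
  have hev : ∀ s ∈ t, ∀ᶠ j in (U : Filter J), rep hW xs s j = rep hW xs' s j := fun s _ =>
    hL (congr($(hψ).hom s))
  filter_upwards [h, h', he, (Filter.eventually_all_finset t).mpr hev] with j hj hj' hje hjt
  obtain ⟨φ, hφ⟩ := exists_fac hW hj
  obtain ⟨φ', hφ'⟩ := exists_fac hW hj'
  have hb : f.appLE W' W hWle ≫ φ = f.appLE W' W hWle ≫ φ' := by
    refine chartHom_unique hW' ?_
    rw [hφ, hφ', Option.map_some, Option.map_some] at hje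
    simpa [Spec.map_comp, hW'.SpecMap_appLE_fromSpec f hW hWle] using Option.some.inj hje
  suffices φ = φ' by rw [hφ, hφ', this]
  ext s
  have hs : s ∈ Algebra.adjoin Γ(T, W') (t : Set Γ(X, W)) := ht ▸ Algebra.mem_top
  induction hs using Algebra.adjoin_induction with
  | mem z hz => rw [← rep_eq hW xs z j hφ, ← rep_eq hW xs' z j hφ']; exact hjt z hz
  | algebraMap z => exact congr($(hb).hom z)
  | add a b _ _ ha hb => rw [map_add, map_add, ha, hb]
  | mul a b _ _ ha hb => rw [map_mul, map_mul, ha, hb]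

end Groth.Agent.Lib.LimSub.UltraLift
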